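import Groth.Agent.Lib.Euler.Scalar
import Groth.Agent.Lib.ASBun21.Isotypical
import Groth.Agent.Lib.Depth.HartogsUnit
import Mathlib.CategoryTheory.Idempotents.Basic

/-!
# The summands of a module cut out by clopen sets
-/

set_option autoImplicit false
set_option linter.style.haveILetI false
set_option backward.isDefEq.respectTransparency false

universe u

open CategoryTheory CategoryTheory.Limits AlgebraicGeometry TopologicalSpace Opposite
open GrothLib.QCoh (stalkLin)
open GrothLib.Euler (smulMod)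

noncomputable section

namespace GrothLib.ClopenDec11

variable {X : Scheme.{u}}

theorem exists_chi (S : Clopens X) : ∃ e : Coh.Γtop X,
    (∀ x ∈ S, X.presheaf.germ ⊤ x trivial e = 1) ∧ (∀ x ∉ S, X.presheaf.germ ⊤ x trivial e = 0) := by
  let U : X.Opens := ⟨S, S.isClopen.2⟩
  let V : X.Opens := ⟨(S : Set X)ᶜ, S.isClopen.1.isOpen_compl⟩
  let W : ULift.{u} Bool → X.Opens := fun b => if b.down then U else V
  let s : ∀ b, Γ(X, W b) := fun b => if b.down then 1 else 0
  obtain ⟨e, he, -⟩ := TopCat.Sheaf.existsUnique_gluing' X.sheaf W ⊤ (fun _ => homOfLE le_top) (fun x _ => by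
    by_cases h : x ∈ S
    · exact Opens.mem_iSup.2 ⟨⟨true⟩, h⟩
    · exact Opens.mem_iSup.2 ⟨⟨false⟩, h⟩) s (fun a b => by
    obtain ⟨a⟩ := a
    obtain ⟨b⟩ := b
    have hd : ∀ (T : X.Opens), T ≤ U → T ≤ V → ∀ p q : Γ(X, T), p = q := fun T hU hV p q =>
      TopCat.Presheaf.section_ext X.sheaf T p q fun x hx => absurd (hU hx) (hV hx)
    cases a <;> cases b
    · rfl
    · exact hd _ inf_le_right inf_le_left _ _
    · exact hd _ inf_le_left inf_le_right _ _
    · rfl)
  refine ⟨e, fun x hx => ?_, fun x hx => ?_⟩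
  · have h := congrArg (X.presheaf.germ (W ⟨true⟩) x hx) (he ⟨true⟩)
    exact ((X.presheaf.germ_res_apply _ x hx e).symm.trans h).trans (map_one _)
  · have h := congrArg (X.presheaf.germ (W ⟨false⟩) x hx) (he ⟨false⟩)
    exact ((X.presheaf.germ_res_apply _ x hx e).symm.trans h).trans (map_zero _)

/-- The characteristic function of a clopen set. -/
def chi (S : Clopens X) : Coh.Γtop X := (exists_chi S).choose

theorem germ_chi_of_mem {S : Clopens X} {x : X} (h : x ∈ S) : X.presheaf.germ ⊤ x trivial (chi S) = 1 :=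
  (exists_chi S).choose_spec.1 x h

theorem germ_chi_of_notMem {S : Clopens X} {x : X} (h : x ∉ S) : X.presheaf.germ ⊤ x trivial (chi S) = 0 :=
  (exists_chi S).choose_spec.2 x h

/-- The projection to the part over a clopen set. -/
abbrev idem (S : Clopens X) (F : X.Modules) : F ⟶ F := smulMod F (chi S)

theorem hom_ext_germ {F G : X.Modules} (a b : F ⟶ G) (h : ∀ (x : X) (v : F.presheaf.stalk x), stalkLin a x v = stalkLin b x v) :
    a = b := by
  refine Scheme.Modules.hom_ext _ _ fun U => AddCommGrpCat.ext fun s => ?_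
  refine sub_eq_zero.1 (QCoh.section_eq_zero_of_germ G (a.app U s - b.app U s) fun x hx => ?_)
  rw [map_sub, sub_eq_zero, ← QCoh.stalkLin_germ a hx s, ← QCoh.stalkLin_germ b hx s, h]

theorem stalkLin_idem_of_mem {S : Clopens X} {F : X.Modules} {x : X} (h : x ∈ S) (v : F.presheaf.stalk x) :
    stalkLin (idem S F) x v = v := by
  rw [Euler.stalkLin_smulMod, germ_chi_of_mem h, one_smul]

theorem stalkLin_idem_of_notMem {S : Clopens X} {F : X.Modules} {x : X} (h : x ∉ S) (v : F.presheaf.stalk x) :
    stalkLin (idem S F) x v = 0 := by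
  rw [Euler.stalkLin_smulMod, germ_chi_of_notMem h, zero_smul]

theorem idem_comp (S : Clopens X) (F : X.Modules) : idem S F ≫ idem S F = idem S F :=
  hom_ext_germ _ _ fun x v => by
    rw [QCoh.stalkLin_comp]
    by_cases h : x ∈ S
    · rw [stalkLin_idem_of_mem h, stalkLin_idem_of_mem h]
    · simp only [stalkLin_idem_of_notMem h]

theorem idem_natural (S : Clopens X) {F G : X.Modules} (f : F ⟶ G) : idem S F ≫ f = f ≫ idem S G :=
  hom_ext_germ _ _ fun x v => by
    rw [QCoh.stalkLin_comp, QCoh.stalkLin_comp, Euler.stalkLin_smulMod, Euler.stalkLin_smulMod, map_smul]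

/-- The part over a clopen set. -/
def part (S : Clopens X) (F : X.Modules) : X.Modules :=
  (IsIdempotentComplete.idempotents_split F (idem S F) (idem_comp S F)).choose

/-- Its inclusion. -/
def inc (S : Clopens X) (F : X.Modules) : part S F ⟶ F :=
  (IsIdempotentComplete.idempotents_split F (idem S F) (idem_comp S F)).choose_spec.choose

/-- Its projection. -/
def prj (S : Clopens X) (F : X.Modules) : F ⟶ part S F :=
  (IsIdempotentComplete.idempotents_split F (idem S F) (idem_comp S F)).choose_spec.choose_spec.choose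

@[reassoc (attr := simp)]
theorem inc_prj (S : Clopens X) (F : X.Modules) : inc S F ≫ prj S F = 𝟙 _ :=
  (IsIdempotentComplete.idempotents_split F (idem S F) (idem_comp S F)).choose_spec.choose_spec.choose_spec.1

theorem prj_inc (S : Clopens X) (F : X.Modules) : prj S F ≫ inc S F = idem S F :=
  (IsIdempotentComplete.idempotents_split F (idem S F) (idem_comp S F)).choose_spec.choose_spec.choose_spec.2

instance mono_inc (S : Clopens X) (F : X.Modules) : Mono (inc S F) := mono_of_mono_fac (inc_prj S F)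

instance epi_prj (S : Clopens X) (F : X.Modules) : Epi (prj S F) := epi_of_epi_fac (inc_prj S F)

/-- The map induced on parts. -/
def pmap (S : Clopens X) {F G : X.Modules} (f : F ⟶ G) : part S F ⟶ part S G := inc S F ≫ f ≫ prj S G

theorem pmap_inc (S : Clopens X) {F G : X.Modules} (f : F ⟶ G) : pmap S f ≫ inc S G = inc S F ≫ f := by
  simp only [pmap, Category.assoc, prj_inc]
  rw [← idem_natural, ← prj_inc, Category.assoc, inc_prj_assoc]

theorem mono_pmap (S : Clopens X) {F G : X.Modules} (f : F ⟶ G) [Mono f] : Mono (pmap S f) :=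
  mono_of_mono_fac (pmap_inc S f)

theorem isCoh_part [IsLocallyNoetherian X] (S : Clopens X) {F : X.Modules} (hF : Coh.IsCoh F) : Coh.IsCoh (part S F) :=
  ASBun21.isCoh_of_retract (inc S F) (prj S F) (inc_prj S F) hF

/-- Parts are compatible with inclusions of clopen sets. -/
def incl {A S : Clopens X} (_h : A ≤ S) (F : X.Modules) : part A F ⟶ part S F := inc A F ≫ prj S F

theorem incl_inc {A S : Clopens X} (h : A ≤ S) (F : X.Modules) : incl h F ≫ inc S F = inc A F := by
  have e : idem A F ≫ idem S F = idem A F := hom_ext_germ _ _ fun x v => by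
    rw [QCoh.stalkLin_comp]
    by_cases hx : x ∈ A
    · rw [stalkLin_idem_of_mem hx, stalkLin_idem_of_mem (h hx)]
    · rw [stalkLin_idem_of_notMem hx, map_zero]
  calc incl h F ≫ inc S F = inc A F ≫ (idem A F ≫ idem S F) := by
        simp only [incl, Category.assoc, prj_inc]
        rw [← prj_inc A F, Category.assoc, inc_prj_assoc]
    _ = _ := by rw [e, ← prj_inc A F, inc_prj_assoc]

/-- The splitting of a part along two complementary pieces. -/
theorem exists_splitting {A B S : Clopens X} (hA : A ≤ S) (hB : B ≤ S) (hd : ∀ x, x ∈ A → x ∉ B)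
    (hu : ∀ x ∈ S, x ∈ A ∨ x ∈ B) (F : X.Modules) :
    ∃ T : ShortComplex X.Modules, T.ShortExact ∧ T.X₁ = part A F ∧ T.X₂ = part S F ∧ T.X₃ = part B F := by
  have hz : idem A F ≫ idem B F = 0 := hom_ext_germ _ _ fun x v => by
    rw [QCoh.stalkLin_comp]
    by_cases hx : x ∈ A
    · rw [stalkLin_idem_of_mem hx, stalkLin_idem_of_notMem (hd x hx)]
      exact (stalkLin_zero' x v).symm
    · rw [stalkLin_idem_of_notMem hx, map_zero]
      exact (stalkLin_zero' x v).symm
  have hs : idem A F + idem B F = idem S F := hom_ext_germ _ _ fun x v => by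
    rw [stalkLin_add', Euler.stalkLin_smulMod, Euler.stalkLin_smulMod, Euler.stalkLin_smulMod, ← add_smul]
    refine congrArg (· • v) ?_
    by_cases hx : x ∈ A
    · rw [germ_chi_of_mem hx, germ_chi_of_notMem (hd x hx), germ_chi_of_mem (hA hx), add_zero]
    · by_cases hx' : x ∈ B
      · rw [germ_chi_of_notMem hx, germ_chi_of_mem hx', germ_chi_of_mem (hB hx'), zero_add]
      · rw [germ_chi_of_notMem hx, germ_chi_of_notMem hx', germ_chi_of_notMem fun h => (hu x h).elim hx hx', add_zero]
  have h0 : incl hA F ≫ inc S F ≫ prj B F = 0 := by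
    rw [← Category.assoc, incl_inc, ← cancel_epi (prj A F), comp_zero, ← Category.assoc, prj_inc,
      ← cancel_mono (inc B F), zero_comp, Category.assoc, prj_inc, hz]
  let T := ShortComplex.mk (incl hA F) (inc S F ≫ prj B F) h0
  have sp : T.Splitting :=
    { r := inc S F ≫ prj A F
      s := incl hB F
      f_r := by
        show incl hA F ≫ inc S F ≫ prj A F = 𝟙 _
        rw [← Category.assoc, incl_inc, inc_prj]
      s_g := by
        show incl hB F ≫ inc S F ≫ prj B F = 𝟙 _
        rw [← Category.assoc, incl_inc, inc_prj]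
      id := by
        show (inc S F ≫ prj A F) ≫ incl hA F + (inc S F ≫ prj B F) ≫ incl hB F = 𝟙 _
        rw [← cancel_mono (inc S F), Preadditive.add_comp, Category.id_comp]
        simp only [Category.assoc, incl_inc, prj_inc]
        rw [← Preadditive.comp_add, hs, ← prj_inc, inc_prj_assoc] }
  exact ⟨T, sp.shortExact, rfl, rfl, rfl⟩
where
  stalkLin_zero' {G : X.Modules} (x : X) (v : F.presheaf.stalk x) : stalkLin (0 : F ⟶ G) x v = 0 := by
    obtain ⟨U, hU, s, rfl⟩ := TopCat.Presheaf.exists_germ_eq F.presheaf v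
    rw [QCoh.stalkLin_germ]
    exact map_zero _
  stalkLin_add' {G : X.Modules} {f g : F ⟶ G} (x : X) (v : F.presheaf.stalk x) :
      stalkLin (f + g) x v = stalkLin f x v + stalkLin g x v := by
    obtain ⟨U, hU, s, rfl⟩ := TopCat.Presheaf.exists_germ_eq F.presheaf v
    rw [QCoh.stalkLin_germ, QCoh.stalkLin_germ, QCoh.stalkLin_germ, ← map_add]
    rfl

theorem isZero_part_bot (F : X.Modules) : IsZero (part (⊥ : Clopens X) F) := by
  rw [IsZero.iff_id_eq_zero, ← cancel_epi (prj _ F), ← cancel_mono (inc _ F), comp_zero, zero_comp,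
    Category.comp_id, prj_inc]
  refine hom_ext_germ _ _ fun x v => ?_
  rw [stalkLin_idem_of_notMem (show x ∉ (⊥ : Clopens X) from Set.notMem_empty x)]
  obtain ⟨U, hU, s, rfl⟩ := TopCat.Presheaf.exists_germ_eq F.presheaf v
  rw [QCoh.stalkLin_germ]
  exact (map_zero _).symm

theorem isIso_inc_top (F : X.Modules) : IsIso (inc (⊤ : Clopens X) F) := by
  refine ⟨prj _ F, inc_prj _ F, ?_⟩
  rw [prj_inc]
  exact hom_ext_germ _ _ fun x v => by rw [stalkLin_idem_of_mem (show x ∈ (⊤ : Clopens X) from trivial), QCoh.stalkLin_id]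

theorem support_part_subset (S : Clopens X) (F : X.Modules) : CohB1.support (part S F) ⊆ CohB1.support F := by
  intro x hx h
  refine hx ⟨fun a b => QCoh.stalkLin_injective (inc S F) x (@Subsingleton.elim _ h _ _)⟩

theorem subsingleton_stalk_part {S : Clopens X} (F : X.Modules) {x : X} (hx : x ∉ S) :
    Subsingleton ((part S F).presheaf.stalk x) := by
  refine ⟨fun a b => ?_⟩
  have h : ∀ a : (part S F).presheaf.stalk x, a = 0 := fun a => by
    refine QCoh.stalkLin_injective (inc S F) x ?_
    rw [map_zero, ← QCoh.stalkLin_id (part S F) x a, ← inc_prj, QCoh.stalkLin_comp, ← QCoh.stalkLin_comp,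
      prj_inc, stalkLin_idem_of_notMem hx]
  rw [h a, h b]

/-- A part is the direct image of the restriction. -/
theorem nonempty_part_iso_push (U : X.Opens) (hU : IsClopen (U : Set X)) (F : X.Modules) :
    Nonempty (part ⟨(U : Set X), hU⟩ F ≅ (Scheme.Modules.pushforward U.ι).obj (F.restrict U.ι)) := by
  let S : Clopens X := ⟨(U : Set X), hU⟩
  let η := inc S F ≫ (Scheme.Modules.restrictAdjunction U.ι).unit.app F
  suffices IsIso η from ⟨@asIso _ _ _ _ η this⟩
  rw [Scheme.Modules.Hom.isIso_iff_isIso_app]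
  intro W
  rw [ConcreteCategory.isIso_iff_bijective]
  have hW : U.ι ''ᵁ (U.ι ⁻¹ᵁ W) = W ⊓ U := Depth.image_preimage_eq_inf U W
  let U' := U.ι ''ᵁ (U.ι ⁻¹ᵁ W)
  have hle : U' ≤ W := U.ι.image_preimage_le W
  have happ : ∀ m, η.app W m = F.presheaf.map (homOfLE hle).op ((inc S F).app W m) := fun m => rfl
  refine ⟨fun a b hab => ?_, fun t => ?_⟩
  · rw [happ, happ] at hab
    refine sub_eq_zero.1 (QCoh.section_eq_zero_of_germ (part S F) _ fun x hx => ?_)
    by_cases hxS : x ∈ S
    · rw [map_sub, sub_eq_zero]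
      refine QCoh.stalkLin_injective (inc S F) x ?_
      rw [QCoh.stalkLin_germ, QCoh.stalkLin_germ]
      have hxU : x ∈ U' := show x ∈ U.ι ''ᵁ (U.ι ⁻¹ᵁ W) from hW ▸ ⟨hx, hxS⟩
      exact ((TopCat.Presheaf.germ_res_apply F.presheaf _ x hxU _).symm.trans
        (congrArg (F.presheaf.germ U' x hxU) hab)).trans (TopCat.Presheaf.germ_res_apply F.presheaf _ x hxU _)
    · haveI := subsingleton_stalk_part F hxS
      exact Subsingleton.elim _ _
  · let V : X.Opens := ⟨(W : Set X) ∩ (U : Set X)ᶜ, W.2.inter hU.1.isOpen_compl⟩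
    let Ws : ULift.{u} Bool → X.Opens := fun b => if b.down then U' else V
    let ts : ∀ b, Γ(F, Ws b) := fun b => match b with
      | ⟨true⟩ => (show Γ(F, U') from t)
      | ⟨false⟩ => (0 : Γ(F, V))
    obtain ⟨m, hm, -⟩ := TopCat.Sheaf.existsUnique_gluing' ⟨F.presheaf, F.isSheaf⟩ Ws W
      (fun b => homOfLE (by
        obtain ⟨b⟩ := b
        cases b
        · exact fun z hz => hz.1
        · exact hle))
      (fun x hx => by
        by_cases h : x ∈ U
        · exact Opens.mem_iSup.2 ⟨⟨true⟩, show x ∈ U.ι ''ᵁ (U.ι ⁻¹ᵁ W) from hW ▸ ⟨hx, h⟩⟩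
        · exact Opens.mem_iSup.2 ⟨⟨false⟩, ⟨hx, h⟩⟩) ts (fun a b => by
        have hd : ∀ (T : X.Opens), T ≤ U' → T ≤ V → ∀ p q : Γ(F, T), p = q := fun T hTU hTV p q =>
          sub_eq_zero.1 (QCoh.section_eq_zero_of_germ F (p - q) fun x hx =>
            absurd (hW ▸ hTU hx : x ∈ W ⊓ U).2 (hTV hx).2)
        obtain ⟨a⟩ := a
        obtain ⟨b⟩ := b
        cases a <;> cases b
        · rfl
        · exact hd _ inf_le_right inf_le_left _ _
        · exact hd _ inf_le_left inf_le_right _ _
        · rfl)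
    refine ⟨(prj S F).app W m, ?_⟩
    rw [happ]
    have h1 : (inc S F).app W ((prj S F).app W m) = (idem S F).app W m := by rw [← prj_inc]; rfl
    rw [h1]
    refine sub_eq_zero.1 (QCoh.section_eq_zero_of_germ F (U := U') _ fun x hx => ?_)
    have hxS : x ∈ S := (hW ▸ hx : x ∈ W ⊓ U).2
    rw [map_sub, sub_eq_zero, TopCat.Presheaf.germ_res_apply, ← QCoh.stalkLin_germ, stalkLin_idem_of_mem hxS]
    have := congrArg (F.presheaf.germ U' x hx) (hm ⟨true⟩)
    exact (TopCat.Presheaf.germ_res_apply F.presheaf _ x hx m).symm.trans this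

/-- Clopen sets of a noetherian space are built from connected ones. -/
theorem clopens_induction [NoetherianSpace X] {P : Clopens X → Prop} (hbot : P ⊥)
    (hconn : ∀ S : Clopens X, _root_.IsConnected (S : Set X) → P S)
    (hadd : ∀ A B S : Clopens X, A ≤ S → B ≤ S → (∀ x, x ∈ A → x ∉ B) → (∀ x ∈ S, x ∈ A ∨ x ∈ B) → P A → P B → P S)
    (S : Clopens X) : P S := by
  suffices h : ∀ C : Closeds X, ∀ S : Clopens X, (S : Set X) = C → P S from
    h ⟨S, S.isClopen.1⟩ S rfl
  intro C
  induction C using WellFoundedLT.induction with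
  | ind C ih =>
    intro S hS
    rcases (S : Set X).eq_empty_or_nonempty with he | hne
    · rwa [show S = ⊥ from SetLike.coe_injective he]
    by_cases hc : _root_.IsPreconnected (S : Set X)
    · exact hconn S ⟨hne, hc⟩
    rw [isPreconnected_iff_subset_of_fully_disjoint_closed S.isClopen.1] at hc
    push Not at hc
    obtain ⟨u, v, hu, hv, hsub, hdisj, hnu, hnv⟩ := hc
    have hop : ∀ {a b : Set X}, IsClosed b → (S : Set X) ⊆ a ∪ b → Disjoint a b → IsOpen ((S : Set X) ∩ a) := by
      intro a b hb h1 h2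
      rw [show (S : Set X) ∩ a = (S : Set X) ∩ bᶜ from ?_]
      · exact S.isClopen.2.inter hb.isOpen_compl
      ext x
      refine ⟨fun h => ⟨h.1, Set.disjoint_left.1 h2 h.2⟩, fun h => ⟨h.1, (h1 h.1).resolve_right h.2⟩⟩
    let A : Clopens X := ⟨(S : Set X) ∩ u, S.isClopen.1.inter hu, hop hv hsub hdisj⟩
    let B : Clopens X := ⟨(S : Set X) ∩ v, S.isClopen.1.inter hv, hop hu (Set.union_comm u v ▸ hsub) hdisj.symm⟩
    refine hadd A B S (fun x hx => hx.1) (fun x hx => hx.1) (fun x hx hx' => Set.disjoint_left.1 hdisj hx.2 hx'.2)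
      (fun x hx => (hsub hx).imp (fun h => ⟨hx, h⟩) fun h => ⟨hx, h⟩)
      (ih ⟨A, A.isClopen.1⟩ ?_ A rfl) (ih ⟨B, B.isClopen.1⟩ ?_ B rfl)
    · refine lt_of_le_of_ne (fun x hx => show x ∈ (C : Set X) from hS ▸ (hx.1 : x ∈ (S : Set X))) fun h => hnu fun x hx => ?_
      have : x ∈ (C : Set X) := hS ▸ hx
      rw [← h] at this
      exact this.2
    · refine lt_of_le_of_ne (fun x hx => show x ∈ (C : Set X) from hS ▸ (hx.1 : x ∈ (S : Set X))) fun h => hnv fun x hx => ?_
      have : x ∈ (C : Set X) := hS ▸ hx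
      rw [← h] at this
      exact this.2

end GrothLib.ClopenDec11
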