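import Groth.Agent.Lib.ClopenDec11.Semistable
import Groth.Agent.Lib.Euler.AmpleComponents
import Groth.Agent.Lib.Euler.GenericCompare
import Groth.Agent.Lib.Euler.Rank
import Groth.Agent.Lib.ModelK.Rank
import Groth.Agent.Lib.OX.OneDegLocus
import Groth.Agent.Lib.RelTilde8.Period
import Groth.Agent.Lib.WeilFin11.Semistable

/-!
# Numerical invariants of bundles on the connected components of a smooth curve
-/

set_option autoImplicit false
set_option linter.style.haveILetI false
set_option backward.isDefEq.respectTransparency false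

universe u

open CategoryTheory CategoryTheory.Limits AlgebraicGeometry TopologicalSpace
open GrothLib.DecSh20

noncomputable section

namespace GrothLib.ClopenDec11

variable (k : Type u) [Field k] {Y : Scheme.{u}} [Y.Over (Spec (CommRingCat.of k))]
  [IsProper (Y ↘ Spec (CommRingCat.of k))]

attribute [local irreducible] Curv2.euler

section

variable (U : Y.Opens) (hU : IsClopen (U : Set Y))

/-- The clopen set underlying a clopen open subscheme. -/
def toClopens : Clopens Y := ⟨(U : Set Y), hU⟩

/-- The structure map of an open subscheme. -/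
@[reducible] def overU : (U : Scheme.{u}).Over (Spec (CommRingCat.of k)) := ⟨U.ι ≫ Y ↘ Spec (CommRingCat.of k)⟩

include hU in
theorem isClosedImmersion_ι : IsClosedImmersion U.ι :=
  IsClosedImmersion.of_isPreimmersion U.ι (by rw [Scheme.Opens.range_ι]; exact hU.1)

include hU in
theorem isProper_overU :
    letI := overU k U
    IsProper ((U : Scheme.{u}) ↘ Spec (CommRingCat.of k)) := by
  haveI := isClosedImmersion_ι U hU
  exact inferInstanceAs (IsProper (U.ι ≫ Y ↘ Spec (CommRingCat.of k)))

/-- The Euler characteristic of a part is computed on the subscheme. -/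
theorem euler_part {G : Y.Modules} (hG : Coh.IsCoh G) :
    letI := overU k U
    Curv2.euler k Y (part (toClopens U hU) G) = Curv2.euler k (U : Scheme.{u}) (G.restrict U.ι) := by
  letI := overU k U
  haveI := isClosedImmersion_ι U hU
  haveI := Euler.isNoetherian_of_proper (X := Y) k
  haveI := (Cohom.isCoh_restrict G hG U.ι).1
  obtain ⟨e⟩ := nonempty_part_iso_push U hU G
  rw [toClopens, Euler.euler_of_iso k e]
  exact Snapper.euler_pushforward U.ι rfl _

/-- The multiplicity of a part is computed on the subscheme. -/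
theorem mult_part {L : Y.Modules} (hL : PicF.IsInvertible L) {G : Y.Modules} (hG : Coh.IsCoh G) :
    letI := overU k U
    DecSh.mult k Y L (part (toClopens U hU) G) = DecSh.mult k (U : Scheme.{u}) (L.restrict U.ι) (G.restrict U.ι) := by
  letI := overU k U
  haveI := isClosedImmersion_ι U hU
  haveI := isProper_overU k U hU
  haveI := Euler.isNoetherian_of_proper (X := Y) k
  haveI := Euler.isNoetherian_of_proper (X := (U : Scheme.{u})) k
  have hG' := Cohom.isCoh_restrict G hG U.ι
  obtain ⟨e⟩ := nonempty_part_iso_push U hU G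
  rw [toClopens, mult_of_iso k L e]
  haveI := ProjFormula.isIso_projHom U.ι (Euler.isFinLocFree_of_isInvertible hL) (G.restrict U.ι)
  let L' := (Scheme.Modules.pullback U.ι).obj L
  let eL : L' ≅ L.restrict U.ι := ((Scheme.Modules.restrictFunctorIsoPullback U.ι).app L).symm
  have hL' : PicF.IsInvertible L' := Ample.isInvertible_pullback U.ι hL
  let e' : CohB1.tensorMod ((Scheme.Modules.pushforward U.ι).obj (G.restrict U.ι)) L ≅
      (Scheme.Modules.pushforward U.ι).obj (CohB1.tensorMod (G.restrict U.ι) L') :=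
    (((OX.tensorBraiding (X := Y)).app L).app ((Scheme.Modules.pushforward U.ι).obj (G.restrict U.ι))) ≪≫
      asIso (ProjFormula.projHom U.ι L (G.restrict U.ι)) ≪≫
      (Scheme.Modules.pushforward U.ι).mapIso (((OX.tensorBraiding (X := (U : Scheme.{u}))).app (G.restrict U.ι)).app L')
  haveI := hG'.1
  haveI := (CMReg.isCoh_tensorMod hG' hL').1
  rw [DecSh.mult, DecSh.mult, Euler.euler_of_iso k e', Snapper.euler_pushforward U.ι rfl _,
    Snapper.euler_pushforward U.ι rfl _,
    Euler.euler_of_iso k (Ample.LineData.tensorModMapIso (Iso.refl (G.restrict U.ι)) eL)]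

end

/-- Euler characteristic of the tensor product of two bundles on an integral curve. -/
theorem euler_tensorMod {C : Scheme.{u}} [C.Over (Spec (CommRingCat.of k))]
    [IsProper (C ↘ Spec (CommRingCat.of k))] [IsIntegral C] (hd : topologicalKrullDim C ≤ 1) {r s : ℕ}
    {E F : C.Modules} (hE : FlatMod.IsFinLocFreeOfRank r E) (hF : FlatMod.IsFinLocFreeOfRank s F) :
    Curv2.euler k C (CohB1.tensorMod E F) =
      s * Curv2.euler k C E + r * Curv2.euler k C F - r * s * Curv2.euler k C (Coh.structureModule C) := by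
  obtain ⟨V, hV, ⟨φ⟩⟩ := Euler.exists_trivial_genericPoints k hE
  have h : Curv2.euler k C (CohB1.tensorMod E F) = r * Curv2.deg k C F s + s * Curv2.euler k C E :=
    Euler.euler_tF k hd hF (Euler.isCoh_of_isFinLocFree (FinCov.isFinLocFree_of_rank hE)) hV φ
  rw [Curv2.deg] at h
  linear_combination h

/-- The invariants of the parts of two bundles over a connected component of a smooth curve. -/
theorem component_invariants [Smooth (Y ↘ Spec (CommRingCat.of k))] (hd : topologicalKrullDim Y ≤ 1)
    {L : Y.Modules} (hL : PicF.IsInvertible L) {E F : Y.Modules} (hE : FlatMod.IsFinLocFree E)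
    (hF : FlatMod.IsFinLocFree F) (hE0 : ∀ y : Y, ¬ Subsingleton (E.presheaf.stalk y))
    (hF0 : ∀ y : Y, ¬ Subsingleton (F.presheaf.stalk y))
    (U : Y.Opens) (hU : IsClopen (U : Set Y)) (hc : _root_.IsConnected (U : Set Y)) :
    let S := toClopens U hU
    let o := Curv2.euler k Y (part S (Coh.structureModule Y))
    let l := Curv2.euler k Y (part S L) - o
    ∃ r s : ℤ, 0 < r ∧ 0 < s ∧ DecSh.mult k Y L (part S E) = r * l ∧ DecSh.mult k Y L (part S F) = s * l ∧
      DecSh.mult k Y L (part S (CohB1.tensorMod E F)) = r * s * l ∧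
      Curv2.euler k Y (part S (CohB1.tensorMod E F)) =
        s * Curv2.euler k Y (part S E) + r * Curv2.euler k Y (part S F) - r * s * o := by
  intro S o l
  letI := overU k U
  haveI := isClosedImmersion_ι U hU
  haveI := isProper_overU k U hU
  haveI : Smooth ((U : Scheme.{u}) ↘ Spec (CommRingCat.of k)) :=
    inferInstanceAs (Smooth (U.ι ≫ Y ↘ Spec (CommRingCat.of k)))
  haveI := Euler.isNoetherian_of_proper (X := Y) k
  haveI : ConnectedSpace (U : Scheme.{u}) := isConnected_iff_connectedSpace.1 hc
  haveI := Euler.isIntegral_of_smooth_connected k ((U : Scheme.{u}) ↘ Spec (CommRingCat.of k))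
  have hd' : topologicalKrullDim (U : Scheme.{u}) ≤ 1 :=
    (U.ι.isOpenEmbedding.isInducing.topologicalKrullDim_le).trans hd
  have hlf : ∀ {G : Y.Modules}, FlatMod.IsFinLocFree G → FlatMod.IsFinLocFree (G.restrict U.ι) := fun {G} hG =>
    DCoh.isFinLocFree_of_iso ((Scheme.Modules.restrictFunctorIsoPullback U.ι).app G).symm
      (OX.isFinLocFree_pullback U.ι hG)
  obtain ⟨r, hr⟩ := ModelK.exists_rank_connected (hlf hE)
  obtain ⟨s, hs⟩ := ModelK.exists_rank_connected (hlf hF)
  obtain ⟨y₀, hy₀⟩ := hc.nonempty
  have hpos : ∀ {G : Y.Modules} {n : ℕ}, (∀ y : Y, ¬ Subsingleton (G.presheaf.stalk y)) →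
      FlatMod.IsFinLocFreeOfRank n (G.restrict U.ι) → 0 < n := fun {G} n h0 hn => by
    refine Nat.pos_of_ne_zero fun hn0 => h0 y₀ ?_
    subst hn0
    exact @Equiv.subsingleton _ _
      (((Scheme.Modules.restrictStalkNatIso U.ι (⟨y₀, hy₀⟩ : (U : Scheme.{u}))).app G).addCommGroupIsoToAddEquiv).symm.toEquiv
      (Euler.stalk_subsingleton_of_rank_zero hn (⟨y₀, hy₀⟩ : (U : Scheme.{u})))
  have hEc := Euler.isCoh_of_isFinLocFree hE
  have hFc := Euler.isCoh_of_isFinLocFree hF
  have hT := OX.isFinLocFree_tensor hE hF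
  have hTc : Coh.IsCoh (CohB1.tensorMod E F) := Euler.isCoh_of_isFinLocFree hT
  obtain ⟨eT⟩ := RelTilde8.nonempty_restrict_tensorMod_iso U E F
  have hOc : Coh.IsCoh (Coh.structureModule Y) := Euler.isCoh_of_isInvertible Euler.isInvertible_structure
  have eO : (Coh.structureModule Y).restrict U.ι ≅ Coh.structureModule (U : Scheme.{u}) :=
    Scheme.Modules.restrictUnitIso U.ι
  have hL1 : FlatMod.IsFinLocFreeOfRank 1 (L.restrict U.ι) := Euler.isFinLocFreeOfRank_one'
    (RelProjK.isInvertible_of_iso ((Scheme.Modules.restrictFunctorIsoPullback U.ι).app L)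
      (Ample.isInvertible_pullback U.ι hL))
  have ho : o = Curv2.euler k (U : Scheme.{u}) (Coh.structureModule (U : Scheme.{u})) := by
    show Curv2.euler k Y (part (toClopens U hU) _) = _
    rw [euler_part k U hU hOc, Euler.euler_of_iso k eO]
  have hl : l = Curv2.euler k (U : Scheme.{u}) (L.restrict U.ι) -
      Curv2.euler k (U : Scheme.{u}) (Coh.structureModule (U : Scheme.{u})) := by
    show Curv2.euler k Y (part (toClopens U hU) _) - o = _
    rw [euler_part k U hU (Euler.isCoh_of_isInvertible hL), ho]
  have hm : ∀ {G : Y.Modules} {n : ℕ}, Coh.IsCoh G → FlatMod.IsFinLocFreeOfRank n (G.restrict U.ι) →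
      DecSh.mult k Y L (part S G) = n * l := fun {G} n hG hn => by
    show DecSh.mult k Y L (part (toClopens U hU) G) = _
    rw [mult_part k U hU hL hG, DecSh.mult, euler_tensorMod k hd' hn hL1, hl]
    push_cast
    ring
  refine ⟨r, s, by exact_mod_cast hpos hE0 hr, by exact_mod_cast hpos hF0 hs, hm hEc hr, hm hFc hs, ?_, ?_⟩
  · rw [hm hTc (OX.isFinLocFreeOfRank_of_iso eT (WeilFin11.isFinLocFreeOfRank_tensor hr hs))]
    push_cast
    ring
  · show Curv2.euler k Y (part (toClopens U hU) _) = _
    rw [euler_part k U hU hTc, ← Euler.euler_of_iso k eT, euler_tensorMod k hd' hr hs, ho,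
      ← euler_part k U hU hEc, ← euler_part k U hU hFc]

end GrothLib.ClopenDec11
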