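import Groth.Agent.Lib.ClopenDec11.Basic
import Groth.Agent.Lib.TFCurv11.PushStab

/-!
# Semistability on disjoint unions
-/

set_option autoImplicit false
set_option linter.style.haveILetI false
set_option backward.isDefEq.respectTransparency false

universe u

open CategoryTheory CategoryTheory.Limits AlgebraicGeometry TopologicalSpace
open GrothLib.DecSh20

noncomputable section

namespace GrothLib.ClopenDec11

variable (k : Type u) [Field k] {X : Scheme.{u}} [X.Over (Spec (CommRingCat.of k))]
  [IsProper (X ↘ Spec (CommRingCat.of k))]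

attribute [local irreducible] Curv2.euler

/-- The Euler characteristics and multiplicities add along a splitting of a part. -/
theorem part_additive (hd : topologicalKrullDim X ≤ 1) [IsLocallyNoetherian X] {L : X.Modules}
    (hL : PicF.IsInvertible L) {A B S : Clopens X} (hA : A ≤ S) (hB : B ≤ S) (hdj : ∀ x, x ∈ A → x ∉ B)
    (hu : ∀ x ∈ S, x ∈ A ∨ x ∈ B) {F : X.Modules} (hF : Coh.IsCoh F) :
    Curv2.euler k X (part S F) = Curv2.euler k X (part A F) + Curv2.euler k X (part B F) ∧
      DecSh.mult k X L (part S F) = DecSh.mult k X L (part A F) + DecSh.mult k X L (part B F) := by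
  obtain ⟨T, hT, h1, h2, h3⟩ := exists_splitting hA hB hdj hu F
  rw [← h1, ← h2, ← h3]
  exact ⟨euler_add k hT (h1 ▸ isCoh_part A hF) (h2 ▸ isCoh_part S hF) (h3 ▸ isCoh_part B hF),
    mult_add k hL hT (h1 ▸ isCoh_part A hF) (h2 ▸ isCoh_part S hF) (h3 ▸ isCoh_part B hF)⟩

theorem part_top (L : X.Modules) (F : X.Modules) :
    Curv2.euler k X (part (⊤ : Clopens X) F) = Curv2.euler k X F ∧
      DecSh.mult k X L (part (⊤ : Clopens X) F) = DecSh.mult k X L F := by
  haveI := isIso_inc_top F
  exact ⟨Euler.euler_of_iso k (asIso (inc ⊤ F)), mult_of_iso k L (asIso (inc ⊤ F))⟩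

variable {L : X.Modules} {E : X.Modules}

/-- The numerical inequality for every submodule. -/
theorem bound_of_isSemistable (hd : topologicalKrullDim X ≤ 1) (hL : PicF.IsInvertible L)
    (h : ShStab.IsSemistable k X L E 1) {F : X.Modules} (ι : F ⟶ E) [Mono ι] (hF : Coh.IsCoh F) :
    DecSh.mult k X L E * Curv2.euler k X F ≤ DecSh.mult k X L F * Curv2.euler k X E := by
  by_cases hz : IsZero F
  · rw [euler_zero k hz, mult_zero k hz, mul_zero, zero_mul]
  by_cases hi : IsIso ι
  · rw [Euler.euler_of_iso k (asIso ι), mult_of_iso k L (asIso ι)]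
  exact (PushStab11.isSS_iff k hd hL h.1).1 h.2.2.2 F ι inferInstance hF hz hi

/-- The parts of a semistable module have its slope. -/
theorem part_slope (hd : topologicalKrullDim X ≤ 1) (hL : PicF.IsInvertible L)
    (h : ShStab.IsSemistable k X L E 1) (S : Clopens X) :
    DecSh.mult k X L E * Curv2.euler k X (part S E) = DecSh.mult k X L (part S E) * Curv2.euler k X E := by
  haveI := Euler.isNoetherian_of_proper (X := X) k
  obtain ⟨e1, e2⟩ := part_additive k hd hL (A := S) (B := Sᶜ) (S := ⊤) (fun _ _ => trivial) (fun _ _ => trivial)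
    (fun x hx hx' => hx' hx) (fun x _ => em _) h.1
  rw [(part_top k L E).1] at e1
  rw [(part_top k L E).2] at e2
  have a := bound_of_isSemistable k hd hL h (inc S E) (isCoh_part S h.1)
  have b := bound_of_isSemistable k hd hL h (inc Sᶜ E) (isCoh_part Sᶜ h.1)
  have c1 : DecSh.mult k X L E * Curv2.euler k X E = DecSh.mult k X L E * Curv2.euler k X (part S E) +
      DecSh.mult k X L E * Curv2.euler k X (part Sᶜ E) := by rw [e1]; ring
  have c2 : DecSh.mult k X L E * Curv2.euler k X E = DecSh.mult k X L (part S E) * Curv2.euler k X E +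
      DecSh.mult k X L (part Sᶜ E) * Curv2.euler k X E := by rw [← add_mul, ← e2]
  omega

/-- Nonzero parts of a semistable module are semistable. -/
theorem isSemistable_part (hd : topologicalKrullDim X ≤ 1) (hL : CohB1.IsAmple L)
    (h : ShStab.IsSemistable k X L E 1) (S : Clopens X) (hz : ¬ IsZero (part S E)) :
    ShStab.IsSemistable k X L (part S E) 1 := by
  haveI := Euler.isNoetherian_of_proper (X := X) k
  have hP := isCoh_part S h.1
  refine ⟨hP, hz, fun F ι hι hF hFz => h.2.2.1 F (ι ≫ inc S E) inferInstance hF hFz,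
    (PushStab11.isSS_iff k hd hL.1 hP).2 fun F ι hι hF hFz _ => ?_⟩
  have hE1 : 1 ≤ DecSh.mult k X L E := one_le_mult k hd hL h.2.2.1 (𝟙 E) h.1 h.2.1
  have hb := bound_of_isSemistable k hd hL.1 h (ι ≫ inc S E) hF
  refine le_of_mul_le_mul_right ?_ (by omega : 0 < DecSh.mult k X L E)
  calc DecSh.mult k X L (part S E) * Curv2.euler k X F * DecSh.mult k X L E
      = DecSh.mult k X L (part S E) * (DecSh.mult k X L E * Curv2.euler k X F) := by ring
    _ ≤ DecSh.mult k X L (part S E) * (DecSh.mult k X L F * Curv2.euler k X E) :=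
        mul_le_mul_of_nonneg_left hb (mult_nonneg k hd hL hP)
    _ = DecSh.mult k X L F * (DecSh.mult k X L (part S E) * Curv2.euler k X E) := by ring
    _ = _ := by rw [← part_slope k hd hL.1 h S]; ring

/-- A module is semistable when its connected parts are, with its slope. -/
theorem isSemistable_of_parts (hdim : topologicalKrullDim X = 1) (hL : CohB1.IsAmple L) (hE : Coh.IsCoh E)
    (hz : ¬ IsZero E)
    (h : ∀ S : Clopens X, _root_.IsConnected (S : Set X) → ¬ IsZero (part S E) →
      ShStab.IsSemistable k X L (part S E) 1 ∧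
        DecSh.mult k X L E * Curv2.euler k X (part S E) = DecSh.mult k X L (part S E) * Curv2.euler k X E) :
    ShStab.IsSemistable k X L E 1 := by
  haveI := Euler.isNoetherian_of_proper (X := X) k
  have hd := hdim.le
  refine ⟨hE, hz, ?_, (PushStab11.isSS_iff k hd hL.1 hE).2 ?_⟩
  · intro F ι hι hF hFz
    have hex : ∀ S : Clopens X, ¬ IsZero (part S F) →
        ∃ T : Clopens X, _root_.IsConnected (T : Set X) ∧ ¬ IsZero (part T F) := by
      refine clopens_induction (fun h0 => absurd (isZero_part_bot F) h0) (fun S hS h0 => ⟨S, hS, h0⟩) ?_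
      intro A B S hA hB hdj hu a b h0
      obtain ⟨T, hT, h1, h2, h3⟩ := exists_splitting hA hB hdj hu F
      by_cases hAz : IsZero (part A F)
      · exact b fun hBz => h0 (h2 ▸ hT.exact.isZero_X₂ ((h1 ▸ hAz).eq_of_src _ _) ((h3 ▸ hBz).eq_of_tgt _ _))
      · exact a hAz
    haveI := isIso_inc_top F
    obtain ⟨T, hT, hT0⟩ := hex ⊤ fun h0 => hFz (h0.of_iso (asIso (inc ⊤ F)).symm)
    haveI := hι
    haveI := mono_pmap T ι
    have hEz : ¬ IsZero (part T E) := fun h0 => hT0 (IsZero.of_mono (pmap T ι) h0)
    have h1 := (h T hT hEz).1.2.2.1 (part T F) (pmap T ι) inferInstance (isCoh_part T hF) hT0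
    refine le_antisymm ((topologicalKrullDim_subspace_le _ _).trans (by exact_mod_cast hd)) ?_
    rw [← h1]
    exact Topology.IsInducing.topologicalKrullDim_le
      (Topology.IsEmbedding.inclusion (support_part_subset T F)).isInducing
  · intro F ι hι hF hFz _
    haveI := hι
    have key : ∀ S : Clopens X,
        DecSh.mult k X L E * Curv2.euler k X (part S F) ≤ DecSh.mult k X L (part S F) * Curv2.euler k X E := by
      refine clopens_induction ?_ (fun S hS => ?_) ?_
      · rw [euler_zero k (isZero_part_bot F), mult_zero k (isZero_part_bot F), mul_zero, zero_mul]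
      · haveI := mono_pmap S ι
        by_cases h0 : IsZero (part S F)
        · rw [euler_zero k h0, mult_zero k h0, mul_zero, zero_mul]
        obtain ⟨hss, heq⟩ := h S hS fun h1 => h0 (IsZero.of_mono (pmap S ι) h1)
        have hm : 1 ≤ DecSh.mult k X L (part S E) := one_le_mult k hd hL hss.2.2.1 (𝟙 _) hss.1 hss.2.1
        have hb := bound_of_isSemistable k hd hL.1 hss (pmap S ι) (isCoh_part S hF)
        refine le_of_mul_le_mul_right ?_ (by omega : 0 < DecSh.mult k X L (part S E))
        calc DecSh.mult k X L E * Curv2.euler k X (part S F) * DecSh.mult k X L (part S E)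
            = DecSh.mult k X L E * (DecSh.mult k X L (part S E) * Curv2.euler k X (part S F)) := by ring
          _ ≤ DecSh.mult k X L E * (DecSh.mult k X L (part S F) * Curv2.euler k X (part S E)) :=
              mul_le_mul_of_nonneg_left hb (mult_nonneg k hd hL hE)
          _ = DecSh.mult k X L (part S F) * (DecSh.mult k X L E * Curv2.euler k X (part S E)) := by ring
          _ = _ := by rw [heq]; ring
      · intro A B S hA hB hdj hu a b
        obtain ⟨e1, e2⟩ := part_additive k hd hL.1 hA hB hdj hu hF
        rw [e1, e2, mul_add, add_mul]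
        exact add_le_add a b
    have h1 := key ⊤
    rwa [(part_top k L F).1, (part_top k L F).2] at h1

/-- Semistability is invariant under isomorphism. -/
theorem isSemistable_of_iso (hd : topologicalKrullDim X ≤ 1) (hL : PicF.IsInvertible L) {G : X.Modules}
    (e : G ≅ E) (hG : Coh.IsCoh G) (h : ShStab.IsSemistable k X L E 1) : ShStab.IsSemistable k X L G 1 := by
  refine ⟨hG, fun hz => h.2.1 (hz.of_iso e.symm), fun F ι hι hF hFz => h.2.2.1 F (ι ≫ e.hom) inferInstance hF hFz,
    (PushStab11.isSS_iff k hd hL hG).2 fun F ι hι hF _ _ => ?_⟩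
  rw [Euler.euler_of_iso k e, mult_of_iso k L e]
  exact bound_of_isSemistable k hd hL h (ι ≫ e.hom) hF

end GrothLib.ClopenDec11
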