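import Groth.Agent.Lib.ClopenDec11.Component

/-!
# The slope of a tensor product on a curve with proportional components
-/

set_option autoImplicit false
set_option linter.style.haveILetI false
set_option backward.isDefEq.respectTransparency false

universe u

open CategoryTheory CategoryTheory.Limits AlgebraicGeometry TopologicalSpace
open GrothLib.DecSh20

noncomputable section

namespace GrothLib.ClopenDec11

variable (k : Type u) [Field k] {Y : Scheme.{u}} [Y.Over (Spec (CommRingCat.of k))]
  [IsProper (Y ↘ Spec (CommRingCat.of k))]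

attribute [local irreducible] Curv2.euler

/-- A part over a nonempty clopen set of a nowhere zero module is nonzero. -/
theorem not_isZero_part {F : Y.Modules} {S : Clopens Y} {y : Y} (hy : y ∈ S)
    (h : ¬ Subsingleton (F.presheaf.stalk y)) : ¬ IsZero (part S F) := fun hz => h (by
  refine subsingleton_of_forall_eq 0 fun v => ?_
  rw [← stalkLin_idem_of_mem hy v, ← prj_inc, QCoh.stalkLin_comp]
  haveI : Subsingleton ((part S F).presheaf.stalk y) :=
    ModuleCat.isZero_iff_subsingleton.1 ((OX.stalk y).map_isZero hz)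
  rw [Subsingleton.elim (QCoh.stalkLin (prj S F) y v) 0, map_zero])

/-- The numerical identity behind the additivity of slopes under tensor products. -/
theorem euler_tensor_slope [Smooth (Y ↘ Spec (CommRingCat.of k))] (hdim : topologicalKrullDim Y = 1)
    {L : Y.Modules} (hL : CohB1.IsAmple L)
    (hB : ∀ U : Y.Opens, IsClopen (U : Set Y) → _root_.IsConnected (U : Set Y) →
      Curv2.euler k Y ((Scheme.Modules.pushforward U.ι).obj ((Coh.structureModule Y).restrict U.ι)) *
          (Curv2.euler k Y L - Curv2.euler k Y (Coh.structureModule Y)) =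
        Curv2.euler k Y (Coh.structureModule Y) * (Curv2.euler k Y ((Scheme.Modules.pushforward U.ι).obj (L.restrict U.ι)) -
          Curv2.euler k Y ((Scheme.Modules.pushforward U.ι).obj ((Coh.structureModule Y).restrict U.ι))))
    {E F : Y.Modules} (hE : FlatMod.IsFinLocFree E) (hF : FlatMod.IsFinLocFree F)
    (hE0 : ∀ y : Y, ¬ Subsingleton (E.presheaf.stalk y)) (hF0 : ∀ y : Y, ¬ Subsingleton (F.presheaf.stalk y))
    (hEs : ShStab.IsSemistable k Y L E 1) (hFs : ShStab.IsSemistable k Y L F 1) :
    let me := DecSh.mult k Y L E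
    let mf := DecSh.mult k Y L F
    let l := Curv2.euler k Y L - Curv2.euler k Y (Coh.structureModule Y)
    0 < me ∧ 0 < mf ∧ 0 < l ∧ 0 < DecSh.mult k Y L (CohB1.tensorMod E F) ∧
      Curv2.euler k Y (CohB1.tensorMod E F) * (me * mf * l) =
        DecSh.mult k Y L (CohB1.tensorMod E F) *
          (Curv2.euler k Y E * mf * l + Curv2.euler k Y F * me * l - Curv2.euler k Y (Coh.structureModule Y) * me * mf) := by
  intro me mf l
  haveI := Euler.isNoetherian_of_proper (X := Y) k
  have hd := hdim.le
  have hT : Coh.IsCoh (CohB1.tensorMod E F) := Euler.isCoh_of_isFinLocFree (OX.isFinLocFree_tensor hE hF)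
  have hO : Coh.IsCoh (Coh.structureModule Y) := Euler.isCoh_of_isInvertible Euler.isInvertible_structure
  have hLc : Coh.IsCoh L := Euler.isCoh_of_isInvertible hL.1
  let G := CohB1.tensorMod E F
  let N := Curv2.euler k Y E * mf * l + Curv2.euler k Y F * me * l - Curv2.euler k Y (Coh.structureModule Y) * me * mf
  let ls : Clopens Y → ℤ := fun S =>
    Curv2.euler k Y (part S L) - Curv2.euler k Y (part S (Coh.structureModule Y))
  have key : ∀ S : Clopens Y, Curv2.euler k Y (part S G) * (me * mf * l) = DecSh.mult k Y L (part S G) * N ∧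
      0 ≤ DecSh.mult k Y L (part S G) ∧ 0 ≤ ls S ∧
      ((S : Set Y).Nonempty → 0 < DecSh.mult k Y L (part S G) ∧ 0 < ls S) := by
    refine clopens_induction ?_ (fun S hS => ?_) ?_
    · simp only [ls, euler_zero k (isZero_part_bot G), mult_zero k (isZero_part_bot G),
        euler_zero k (isZero_part_bot L), euler_zero k (isZero_part_bot (Coh.structureModule Y))]
      refine ⟨by ring, le_rfl, le_rfl, fun h => ?_⟩
      simp at h
    · let U : Y.Opens := ⟨S, S.isClopen.2⟩
      obtain ⟨r, s, hr, hs, hme, hmf, hmg, hg⟩ :=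
        component_invariants k hd hL.1 hE hF hE0 hF0 U S.isClopen hS
      have hSU : toClopens U S.isClopen = S := rfl
      rw [hSU] at hme hmf hmg hg
      obtain ⟨y, hy⟩ := hS.nonempty
      have h1 : 1 ≤ DecSh.mult k Y L (part S E) :=
        one_le_mult k hd hL hEs.2.2.1 (inc S E) (isCoh_part S hEs.1) (not_isZero_part hy (hE0 y))
      have hls : 0 < ls S := by
        rw [hme] at h1
        exact pos_of_mul_pos_right (lt_of_lt_of_le zero_lt_one h1) hr.le
      have hrs := mul_pos (mul_pos hr hs) hls
      have se := part_slope k hd hL.1 hEs S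
      have sf := part_slope k hd hL.1 hFs S
      obtain ⟨eL⟩ := nonempty_part_iso_push U S.isClopen L
      obtain ⟨eO⟩ := nonempty_part_iso_push U S.isClopen (Coh.structureModule Y)
      have hb := hB U S.isClopen hS
      rw [← Euler.euler_of_iso k eL, ← Euler.euler_of_iso k eO] at hb
      change Curv2.euler k Y (part S (Coh.structureModule Y)) * l = Curv2.euler k Y (Coh.structureModule Y) * ls S at hb
      rw [hme] at se
      rw [hmf] at sf
      refine ⟨?_, hmg ▸ hrs.le, hls.le, fun _ => ⟨hmg ▸ hrs, hls⟩⟩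
      rw [hmg, hg]
      simp only [N, me, mf, ls] at hb se sf ⊢
      linear_combination (s * DecSh.mult k Y L F * l) * se + (r * DecSh.mult k Y L E * l) * sf -
        (r * s * DecSh.mult k Y L E * DecSh.mult k Y L F) * hb
    · intro A B S hA hB' hdj hu a b
      obtain ⟨g1, g2⟩ := part_additive k hd hL.1 hA hB' hdj hu hT
      obtain ⟨l1, -⟩ := part_additive k hd hL.1 hA hB' hdj hu hLc
      obtain ⟨o1, -⟩ := part_additive k hd hL.1 hA hB' hdj hu hO
      have hlS : ls S = ls A + ls B := by simp only [ls]; rw [l1, o1]; ring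
      have gm : DecSh.mult k Y L (part S G) = DecSh.mult k Y L (part A G) + DecSh.mult k Y L (part B G) := g2
      refine ⟨?_, ?_, ?_, fun ⟨y, hy⟩ => ?_⟩
      · rw [show Curv2.euler k Y (part S G) = Curv2.euler k Y (part A G) + Curv2.euler k Y (part B G) from g1, gm,
          add_mul, add_mul, a.1, b.1]
      · rw [gm]; exact add_nonneg a.2.1 b.2.1
      · rw [hlS]; exact add_nonneg a.2.2.1 b.2.2.1
      · rw [gm, hlS]
        rcases hu y hy with h | h
        · exact ⟨add_pos_of_pos_of_nonneg (a.2.2.2 ⟨y, h⟩).1 b.2.1,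
            add_pos_of_pos_of_nonneg (a.2.2.2 ⟨y, h⟩).2 b.2.2.1⟩
        · exact ⟨add_pos_of_nonneg_of_pos a.2.1 (b.2.2.2 ⟨y, h⟩).1,
            add_pos_of_nonneg_of_pos a.2.2.1 (b.2.2.2 ⟨y, h⟩).2⟩
  obtain ⟨k1, -, -, k4⟩ := key ⊤
  haveI : Nonempty Y := by
    by_contra h
    haveI := not_nonempty_iff.1 h
    haveI : IsEmpty (IrreducibleCloseds Y) := ⟨fun Z => isEmptyElim Z.isIrreducible.nonempty.some⟩
    rw [topologicalKrullDim, Order.krullDim_eq_bot] at hdim
    exact absurd hdim (by decide)
  obtain ⟨p1, p2⟩ := k4 ⟨Classical.arbitrary Y, trivial⟩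
  simp only [ls] at p2
  rw [(part_top k L G).1, (part_top k L G).2] at k1
  rw [(part_top k L G).2] at p1
  rw [(part_top k L L).1, (part_top k L (Coh.structureModule Y)).1] at p2
  exact ⟨one_le_mult k hd hL hEs.2.2.1 (𝟙 E) hEs.1 hEs.2.1, one_le_mult k hd hL hFs.2.2.1 (𝟙 F) hFs.1 hFs.2.1,
    p2, p1, k1⟩

end GrothLib.ClopenDec11
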