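import Groth.Agent.Lib.ClopenDec11.Slope
import Groth.Agent.Lib.CurveMult.RationalPoint
import Groth.Agent.Lib.CurveMult.SepRat
import Groth.Agent.Lib.Euler.CurveVanish
import Groth.Agent.Lib.Euler.VB
import Groth.Agent.Lib.ResDesc28.Basic
import Groth.Agent.Lib.DCoh.LocFree

/-!
# Semistable bundles with vanishing Euler characteristic on every component
-/

set_option autoImplicit false
set_option linter.style.haveILetI false
set_option backward.isDefEq.respectTransparency false

set_option maxHeartbeats 1000000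
universe u

open CategoryTheory CategoryTheory.Limits AlgebraicGeometry TopologicalSpace
open GrothLib.DecSh20

noncomputable section

namespace GrothLib.ClopenDec11

variable (k : Type u) [Field k]

attribute [local irreducible] Curv2.euler

/-- A line bundle with vanishing Euler characteristic on an integral smooth curve. -/
theorem exists_line_euler_zero [IsAlgClosed k] {C : Scheme.{u}} [C.Over (Spec (CommRingCat.of k))]
    [IsProper (C ↘ Spec (CommRingCat.of k))] [Smooth (C ↘ Spec (CommRingCat.of k))] [IsIntegral C]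
    (hdim : topologicalKrullDim C = 1) {L : C.Modules} (hL : FlatMod.IsFinLocFreeOfRank 1 L)
    (hpos : 0 < Curv2.deg k C L 1) :
    ∃ N : C.Modules, FlatMod.IsFinLocFreeOfRank 1 N ∧ Curv2.euler k C N = 0 := by
  haveI := Euler.isNoetherian_of_proper (X := C) k
  let p := C ↘ Spec (CommRingCat.of k)
  obtain ⟨x, -, hx⟩ := IsClosed.exists_closed_singleton (S := (Set.univ : Set C)) isClosed_univ Set.univ_nonempty
  have hreg := GrpSchField.isRegularLocalRing_stalk_of_smooth p hx
  have hD := CurveMult.isEffCartierIdeal_point k hdim hx hreg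
  let D := Scheme.IdealSheafData.vanishingIdeal (⟨{x}, hx⟩ : Closeds C)
  have hrat : Function.Surjective (Curv2.resMap k C x) := by
    have h := (CurveMult.bijective_resMap_of_section k (pointOfClosedPoint p x hx)
      (pointOfClosedPoint_comp p x hx) (IsLocalRing.closedPoint k)).2
    rwa [pointOfClosedPoint_apply] at h
  have hpow : ∀ m : ℕ, FlatMod.IsFinLocFreeOfRank 1 (CohB1.tensorPow L m) := fun m => by
    have := WeilFin11.isFinLocFreeOfRank_tensorPow hL m
    rwa [one_pow] at this
  have hdeg : ∀ m : ℕ, Curv2.euler k C (CohB1.tensorPow L m) =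
      m * Curv2.deg k C L 1 + Curv2.euler k C (Coh.structureModule C) := by
    intro m
    induction m with
    | zero => simp [CohB1.tensorPow]
    | succ m ih =>
      show Curv2.euler k C (CohB1.tensorMod (CohB1.tensorPow L m) L) = _
      rw [euler_tensorMod k hdim.le (hpow m) hL, ih, Curv2.deg]
      push_cast
      ring
  let o := Curv2.euler k C (Coh.structureModule C)
  let m := o.natAbs + o.natAbs
  let n := (m * Curv2.deg k C L 1 + o).toNat
  have hn : (n : ℤ) = m * Curv2.deg k C L 1 + o := by
    refine Int.toNat_of_nonneg ?_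
    have h1 : (m : ℤ) * 1 ≤ m * Curv2.deg k C L 1 := mul_le_mul_of_nonneg_left hpos (by positivity)
    have h2 : (m : ℤ) = |o| + |o| := by simp [m]
    have h3 := neg_abs_le o
    have h4 := abs_nonneg o
    linarith
  have hI := Euler.isFinLocFreeOfRank_one'
    (IdealModSec.isInvertible_of_isEffCartier (Nagata6.isEffCartierIdeal_pow hD n))
  refine ⟨CohB1.tensorMod (CohB1.tensorPow L m) (ClSub.idealMod (D ^ n)), ?_, ?_⟩
  · have := WeilFin11.isFinLocFreeOfRank_tensor (hpow m) hI
    rwa [one_mul] at this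
  · rw [euler_tensorMod k hdim.le (hpow m) hI, hdeg m]
    have h := CurveMult.deg_idealMod_pow k hdim.le hD n
    rw [CurveMult.deg_idealMod k hdim.le hD, CurveMult.finrank_H0_quotMod_rational k hx hrat] at h
    rw [Curv2.deg] at h
    push_cast at h ⊢
    linear_combination h - hn

variable {Y : Scheme.{u}} [Y.Over (Spec (CommRingCat.of k))] [IsProper (Y ↘ Spec (CommRingCat.of k))]

/-- A bundle on a clopen open subscheme with vanishing Euler characteristic, extended by zero. -/
theorem exists_push_zero [IsAlgClosed k] [Smooth (Y ↘ Spec (CommRingCat.of k))]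
    (hd : topologicalKrullDim Y ≤ 1) (hpure : ∀ y : Y, ¬ IsOpen ({y} : Set Y)) {L : Y.Modules}
    (hL : CohB1.IsAmple L) (U : Y.Opens) (hU : IsClopen (U : Set Y)) (hc : _root_.IsConnected (U : Set Y)) :
    ∃ N : (U : Scheme.{u}).Modules, FlatMod.IsFinLocFreeOfRank 1 N ∧
      (letI := overU k U; Curv2.euler k (U : Scheme.{u}) N = 0) := by
  letI := overU k U
  haveI := isClosedImmersion_ι U hU
  haveI := isProper_overU k U hU
  haveI : Smooth ((U : Scheme.{u}) ↘ Spec (CommRingCat.of k)) :=
    inferInstanceAs (Smooth (U.ι ≫ Y ↘ Spec (CommRingCat.of k)))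
  haveI : ConnectedSpace (U : Scheme.{u}) := isConnected_iff_connectedSpace.1 hc
  haveI := Euler.isIntegral_of_smooth_connected k ((U : Scheme.{u}) ↘ Spec (CommRingCat.of k))
  have hd' : topologicalKrullDim (U : Scheme.{u}) ≤ 1 :=
    (U.ι.isOpenEmbedding.isInducing.topologicalKrullDim_le).trans hd
  have hdim : topologicalKrullDim (U : Scheme.{u}) = 1 := by
    refine (Euler.eq_genericPoint_or_dim_one hd').resolve_left fun h => hpure (genericPoint (U : Scheme.{u})).1 ?_
    convert U.2
    exact Set.Subset.antisymm (Set.singleton_subset_iff.2 (genericPoint (U : Scheme.{u})).2) fun y hy =>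
      congrArg Subtype.val (h ⟨y, hy⟩)
  have hP := Ample.isAmple_pullback_of_isAffineHom U.ι hL
  have hpos : 0 < Curv2.deg k (U : Scheme.{u}) ((Scheme.Modules.pullback U.ι).obj L) 1 :=
    (Euler.deg_pos_iff_isAmple_pullback k U.ι hdim hL.1).2 hP
  exact exists_line_euler_zero k hdim (Euler.isFinLocFreeOfRank_one' hP.1) hpos

/-- The bundle attached to a clopen set. -/
def Good (S : Clopens Y) (E : Y.Modules) : Prop :=
  FlatMod.IsFinLocFree E ∧ (∀ y ∉ S, Subsingleton (E.presheaf.stalk y)) ∧
    (∀ y ∈ S, ¬ Subsingleton (E.presheaf.stalk y)) ∧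
    ∀ (U : Y.Opens) (_ : IsClopen (U : Set Y)), _root_.IsConnected (U : Set Y) → (U : Set Y) ⊆ S →
      FlatMod.IsFinLocFreeOfRank 1 (E.restrict U.ι) ∧
        (letI := overU k U; Curv2.euler k (U : Scheme.{u}) (E.restrict U.ι) = 0)

theorem subsingleton_stalk_restrict {M : Y.Modules} (U : Y.Opens) (y : U)
    (h : Subsingleton (M.presheaf.stalk y.1)) : Subsingleton ((M.restrict U.ι).presheaf.stalk y) :=
  @Equiv.subsingleton _ _ ((Scheme.Modules.restrictStalkNatIso U.ι y).app M).addCommGroupIsoToAddEquiv.toEquiv h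

theorem exists_good [IsAlgClosed k] [Smooth (Y ↘ Spec (CommRingCat.of k))]
    (hd : topologicalKrullDim Y ≤ 1) (hpure : ∀ y : Y, ¬ IsOpen ({y} : Set Y)) {L : Y.Modules}
    (hL : CohB1.IsAmple L) (S : Clopens Y) : ∃ E : Y.Modules, Good k S E := by
  haveI := Euler.isNoetherian_of_proper (X := Y) k
  refine clopens_induction (P := fun S => ∃ E : Y.Modules, Good k S E) ?_ (fun S hS => ?_) ?_ S
  · refine ⟨FlatMod.freeMod Y 0, fun x => ⟨⊤, 0, trivial, ⟨DCoh.restrictFreeModIso _ 0⟩⟩, fun y _ => ?_,
      fun y hy => hy.elim, fun U _ hc hsub => absurd (hsub hc.nonempty.some_mem) (fun h => h.elim)⟩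
    exact ModuleCat.isZero_iff_subsingleton.1 ((OX.stalk y).map_isZero (Euler.isZero_freeMod_zero Y))
  · let U : Y.Opens := ⟨S, S.isClopen.2⟩
    obtain ⟨N, hN, hN0⟩ := exists_push_zero k hd hpure hL U S.isClopen hS
    haveI := isClosedImmersion_ι U S.isClopen
    let E := (Scheme.Modules.pushforward U.ι).obj N
    have ei : E.restrict U.ι ≅ N := asIso ((Scheme.Modules.restrictAdjunction U.ι).counit.app N)
    have hE : FlatMod.IsFinLocFree E := ResDesc28.isFinLocFree_pushforward U.ι (FinCov.isFinLocFree_of_rank hN)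
    refine ⟨E, hE, fun y hy => ?_, fun y hy hsub => ?_, fun V hV hVc hsub => ?_⟩
    · refine QCoh.stalk_subsingleton_of_notMem fun h => hy ?_
      have h2 := QCoh.support_pushforward_subset_range U.ι N h
      rwa [Scheme.Opens.range_ι] at h2
    · haveI : Nonempty (U : Scheme.{u}) := ⟨⟨y, hy⟩⟩
      haveI := subsingleton_stalk_restrict U ⟨y, hy⟩ hsub
      obtain ⟨D, e, hxD, he⟩ := FinCov.exists_frame_nhd_of_rank (OX.isFinLocFreeOfRank_of_iso ei.symm hN) (⟨y, hy⟩ : U)
      obtain ⟨b⟩ := Euler.stalk_basis_of_frame he hxD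
      exact b.ne_zero 0 (Subsingleton.elim _ _)
    · have hVU : V = U := Opens.ext (Set.Subset.antisymm hsub
        (hS.isPreconnected.subset_isClopen hV ⟨hVc.nonempty.some, hsub hVc.nonempty.some_mem, hVc.nonempty.some_mem⟩))
      subst hVU
      exact ⟨OX.isFinLocFreeOfRank_of_iso ei.symm hN, (Euler.euler_of_iso k ei).trans hN0⟩
  · rintro A B S hA hB hdj hu ⟨E₁, hE₁, o₁, n₁, c₁⟩ ⟨E₂, hE₂, o₂, n₂, c₂⟩
    haveI : HasFiniteBiproducts Y.Modules := Abelian.hasFiniteBiproducts
    have hsum : ∀ y, Subsingleton ((E₁ ⊞ E₂).presheaf.stalk y) →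
        Subsingleton (E₁.presheaf.stalk y) ∧ Subsingleton (E₂.presheaf.stalk y) := fun y h =>
      ⟨Function.Injective.subsingleton (QCoh.stalkLin_injective (biprod.inl : E₁ ⟶ E₁ ⊞ E₂) y),
        Function.Injective.subsingleton (QCoh.stalkLin_injective (biprod.inr : E₂ ⟶ E₁ ⊞ E₂) y)⟩
    refine ⟨E₁ ⊞ E₂, DCoh.isFinLocFree_biprod hE₁ hE₂, fun y hy => ?_, fun y hy hsub => ?_,
      fun U hU hc hsub => ?_⟩
    · haveI := o₁ y fun h => hy (hA h)
      haveI := o₂ y fun h => hy (hB h)
      refine subsingleton_of_forall_eq 0 fun v => ?_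
      have h : v = QCoh.stalkLin (biprod.fst ≫ biprod.inl + biprod.snd ≫ biprod.inr : E₁ ⊞ E₂ ⟶ E₁ ⊞ E₂) y v := by
        rw [biprod.total, QCoh.stalkLin_id]
      rw [h, QCoh.stalkLin_add, QCoh.stalkLin_comp, QCoh.stalkLin_comp,
        Subsingleton.elim (QCoh.stalkLin (biprod.fst : E₁ ⊞ E₂ ⟶ E₁) y v) 0,
        Subsingleton.elim (QCoh.stalkLin (biprod.snd : E₁ ⊞ E₂ ⟶ E₂) y v) 0, map_zero, map_zero, add_zero]
    · rcases hu y hy with h | h
      · exact n₁ y h (hsum y hsub).1
      · exact n₂ y h (hsum y hsub).2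
    · have hpart : (U : Set Y) ⊆ A ∨ (U : Set Y) ⊆ B := by
        obtain ⟨y, hy⟩ := hc.nonempty
        rcases hu y (hsub hy) with h | h
        · exact Or.inl (hc.isPreconnected.subset_isClopen A.isClopen ⟨y, hy, h⟩)
        · exact Or.inr (hc.isPreconnected.subset_isClopen B.isClopen ⟨y, hy, h⟩)
      haveI := preservesBinaryBiproducts_of_preservesBinaryCoproducts (Scheme.Modules.restrictFunctor U.ι)
      let em := (Scheme.Modules.restrictFunctor U.ι).mapBiprod E₁ E₂
      rcases hpart with h | h
      · obtain ⟨r, e⟩ := c₁ U hU hc h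
        have hz : IsZero (E₂.restrict U.ι) := OX.isZero_of_subsingleton_stalks _ fun y =>
          subsingleton_stalk_restrict U y (o₂ y.1 (hdj y.1 (h y.2)))
        have i : (E₁ ⊞ E₂).restrict U.ι ≅ E₁.restrict U.ι :=
          em ≪≫ (isoBiprodZero (X := E₁.restrict U.ι) hz).symm
        exact ⟨OX.isFinLocFreeOfRank_of_iso i.symm r, (Euler.euler_of_iso k i).trans e⟩
      · obtain ⟨r, e⟩ := c₂ U hU hc h
        have hz : IsZero (E₁.restrict U.ι) := OX.isZero_of_subsingleton_stalks _ fun y =>
          subsingleton_stalk_restrict U y (o₁ y.1 fun h' => hdj y.1 h' (h y.2))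
        have i : (E₁ ⊞ E₂).restrict U.ι ≅ E₂.restrict U.ι :=
          em ≪≫ (isoZeroBiprod (Y := E₂.restrict U.ι) hz).symm
        exact ⟨OX.isFinLocFreeOfRank_of_iso i.symm r, (Euler.euler_of_iso k i).trans e⟩

/-- A good bundle on everything is semistable with vanishing Euler characteristic on all parts. -/
theorem euler_part_good [Smooth (Y ↘ Spec (CommRingCat.of k))] (hdim : topologicalKrullDim Y = 1)
    (hpure : ∀ y : Y, ¬ IsOpen ({y} : Set Y)) {L : Y.Modules} (hL : CohB1.IsAmple L) {E : Y.Modules}
    (h : Good k ⊤ E) :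
    (∀ S : Clopens Y, Curv2.euler k Y (part S E) = 0) ∧ ShStab.IsSemistable k Y L E 1 := by
  haveI := Euler.isNoetherian_of_proper (X := Y) k
  have hd := hdim.le
  have hEc := Euler.isCoh_of_isFinLocFree h.1
  have hz : ∀ S : Clopens Y, Curv2.euler k Y (part S E) = 0 := by
    refine clopens_induction (euler_zero k (isZero_part_bot E)) (fun S hS => ?_) ?_
    · let U : Y.Opens := ⟨S, S.isClopen.2⟩
      have h1 := euler_part k U S.isClopen hEc
      have h2 := (h.2.2.2 U S.isClopen hS fun _ _ => trivial).2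
      have hSU : toClopens U S.isClopen = S := rfl
      rw [hSU] at h1
      rw [h1]
      exact h2
    · intro A B S hA hB hdj hu a b
      rw [(part_additive k hd hL.1 hA hB hdj hu hEc).1, a, b, add_zero]
  refine ⟨hz, hEc, fun hE => ?_, ?_, (PushStab11.isSS_iff k hd hL.1 hEc).2 fun F ι hι hF hFz _ => ?_⟩
  · obtain ⟨y⟩ : Nonempty Y := by
      by_contra h0
      haveI := not_nonempty_iff.1 h0
      haveI : IsEmpty (IrreducibleCloseds Y) := ⟨fun Z => isEmptyElim Z.isIrreducible.nonempty.some⟩
      rw [topologicalKrullDim, Order.krullDim_eq_bot] at hdim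
      exact absurd hdim (by decide)
    exact h.2.2.1 y trivial (ModuleCat.isZero_iff_subsingleton.1 ((OX.stalk y).map_isZero hE))
  · intro F ι hι hF hFz
    haveI := hι
    refine le_antisymm ((topologicalKrullDim_subspace_le _ _).trans (by exact_mod_cast hd)) ?_
    obtain ⟨y, hy⟩ : ∃ y, ¬ Subsingleton (F.presheaf.stalk y) := by
      by_contra h0
      push Not at h0
      exact hFz (OX.isZero_of_subsingleton_stalks F h0)
    obtain ⟨S, hS, hyS⟩ : ∃ S : Clopens Y, _root_.IsConnected (S : Set Y) ∧ y ∈ S := by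
      refine (clopens_induction (P := fun T : Clopens Y => y ∈ T →
        ∃ S : Clopens Y, _root_.IsConnected (S : Set Y) ∧ y ∈ S) (fun h => h.elim) (fun T hT hy => ⟨T, hT, hy⟩)
        (fun A B T _ _ _ hu a b hy => (hu y hy).elim a b) ⊤) trivial
    let U : Y.Opens := ⟨S, S.isClopen.2⟩
    letI := overU k U
    haveI := isClosedImmersion_ι U S.isClopen
    haveI := isProper_overU k U S.isClopen
    haveI : ConnectedSpace (U : Scheme.{u}) := isConnected_iff_connectedSpace.1 hS
    haveI : Smooth ((U : Scheme.{u}) ↘ Spec (CommRingCat.of k)) :=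
      inferInstanceAs (Smooth (U.ι ≫ Y ↘ Spec (CommRingCat.of k)))
    haveI := Euler.isIntegral_of_smooth_connected k ((U : Scheme.{u}) ↘ Spec (CommRingCat.of k))
    have hd' : topologicalKrullDim (U : Scheme.{u}) ≤ 1 :=
      (U.ι.isOpenEmbedding.isInducing.topologicalKrullDim_le).trans hd
    have hdimU : topologicalKrullDim (U : Scheme.{u}) = 1 := by
      refine (Euler.eq_genericPoint_or_dim_one hd').resolve_left fun h' => hpure (genericPoint (U : Scheme.{u})).1 ?_
      convert U.2
      exact Set.Subset.antisymm (Set.singleton_subset_iff.2 (genericPoint (U : Scheme.{u})).2) fun z hz =>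
        congrArg Subtype.val (h' ⟨z, hz⟩)
    have hr := (h.2.2.2 U S.isClopen hS fun _ _ => trivial).1
    have hFU : ¬ IsZero (F.restrict U.ι) := fun hz0 => hy (by
      refine @Equiv.subsingleton _ _
        ((Scheme.Modules.restrictStalkNatIso U.ι (⟨y, hyS⟩ : (U : Scheme.{u}))).app F).addCommGroupIsoToAddEquiv.symm.toEquiv ?_
      exact ModuleCat.isZero_iff_subsingleton.1 ((OX.stalk (⟨y, hyS⟩ : (U : Scheme.{u}))).map_isZero hz0))
    haveI : Mono ((Scheme.Modules.restrictFunctor U.ι).map ι) := inferInstance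
    have hp := PushStab11.isPure_of_locFree k hdimU (FinCov.isFinLocFree_of_rank hr)
      (F.restrict U.ι) ((Scheme.Modules.restrictFunctor U.ι).map ι) inferInstance
      (Cohom.isCoh_restrict F hF U.ι) hFU
    refine le_of_eq_of_le hp.symm ?_
    let g : CohB1.support (F.restrict U.ι) → CohB1.support F := fun z =>
      ⟨U.ι z.1, fun hsub => z.2 (subsingleton_stalk_restrict U z.1 hsub)⟩
    refine Topology.IsInducing.topologicalKrullDim_le (f := g) ?_
    exact (U.ι.isOpenEmbedding.isInducing.comp Topology.IsInducing.subtypeVal).codRestrict (s := CohB1.support F) fun z => (g z).2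
  · haveI := hι
    have hEe : Curv2.euler k Y E = 0 := by rw [← (part_top k L E).1, hz ⊤]
    rw [hEe, mul_zero]
    refine mul_nonpos_iff.2 (Or.inl ⟨mult_nonneg k hd hL hEc, ?_⟩)
    rw [← (part_top k L F).1]
    refine clopens_induction (P := fun S => Curv2.euler k Y (part S F) ≤ 0)
      (le_of_eq (euler_zero k (isZero_part_bot F))) (fun S hS => ?_) ?_ ⊤
    · let U : Y.Opens := ⟨S, S.isClopen.2⟩
      letI := overU k U
      haveI := isClosedImmersion_ι U S.isClopen
      haveI := isProper_overU k U S.isClopen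
      haveI : ConnectedSpace (U : Scheme.{u}) := isConnected_iff_connectedSpace.1 hS
      haveI : Smooth ((U : Scheme.{u}) ↘ Spec (CommRingCat.of k)) :=
        inferInstanceAs (Smooth (U.ι ≫ Y ↘ Spec (CommRingCat.of k)))
      haveI := Euler.isIntegral_of_smooth_connected k ((U : Scheme.{u}) ↘ Spec (CommRingCat.of k))
      haveI := Euler.isNoetherian_of_proper (X := (U : Scheme.{u})) k
      have hd' : topologicalKrullDim (U : Scheme.{u}) ≤ 1 :=
        (U.ι.isOpenEmbedding.isInducing.topologicalKrullDim_le).trans hd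
      obtain ⟨hr, he⟩ := h.2.2.2 U S.isClopen hS fun _ _ => trivial
      rw [show Curv2.euler k Y (part S F) = Curv2.euler k (U : Scheme.{u}) (F.restrict U.ι) from
        euler_part k U S.isClopen hF]
      haveI : Mono ((Scheme.Modules.restrictFunctor U.ι).map ι) := inferInstance
      have hFc := Cohom.isCoh_restrict F hF U.ι
      have hlf := FinCov.isFinLocFree_of_rank hr
      have hrk := Euler.isFinLocFreeOfRank_of_mono
        (Euler.isPrincipalIdealRing_stalk_of_smooth ((U : Scheme.{u}) ↘ Spec (CommRingCat.of k)) hd')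
        ((Scheme.Modules.restrictFunctor U.ι).map ι) hFc hlf
      rcases Nat.eq_zero_or_pos (Euler.grank (F.restrict U.ι)) with h0 | h0
      · rw [h0] at hrk
        exact le_of_eq (euler_zero k (Euler.isZero_of_rank_zero hrk))
      have h1 := Euler.grank_le_of_mono ((Scheme.Modules.restrictFunctor U.ι).map ι) (Euler.isCoh_of_isFinLocFree hlf)
      change Euler.grank (F.restrict U.ι) ≤ Euler.grank (E.restrict U.ι) at h1
      rw [Euler.grank_of_locFree hr] at h1
      have h2 : Euler.grank (F.restrict U.ι) = Euler.grank (E.restrict U.ι) := by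
        rw [Euler.grank_of_locFree hr]; omega
      have h3 := (Euler.degree_le_of_mono k hd' ((Scheme.Modules.restrictFunctor U.ι).map ι) hFc
        (Euler.isCoh_of_isFinLocFree hlf) h2).1
      change Euler.degree k (F.restrict U.ι) ≤ Euler.degree k (E.restrict U.ι) at h3
      rw [Euler.degree, Euler.degree, h2, he] at h3
      linarith
    · intro A B S hA hB hdj hu a b
      rw [(part_additive k hd hL.1 hA hB hdj hu hF).1]
      linarith

/-- Semistability of the square of a good bundle forces proportional components. -/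
theorem proportional_of_good [Smooth (Y ↘ Spec (CommRingCat.of k))] (hdim : topologicalKrullDim Y = 1)
    (hpure : ∀ y : Y, ¬ IsOpen ({y} : Set Y)) {L : Y.Modules} (hL : CohB1.IsAmple L) {E : Y.Modules}
    (hE : Good k ⊤ E) (hEE : ShStab.IsSemistable k Y L (CohB1.tensorMod E E) 1)
    (U : Y.Opens) (hU : IsClopen (U : Set Y)) (hc : _root_.IsConnected (U : Set Y)) :
    Curv2.euler k Y ((Scheme.Modules.pushforward U.ι).obj ((Coh.structureModule Y).restrict U.ι)) *
        (Curv2.euler k Y L - Curv2.euler k Y (Coh.structureModule Y)) =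
      Curv2.euler k Y (Coh.structureModule Y) *
        (Curv2.euler k Y ((Scheme.Modules.pushforward U.ι).obj (L.restrict U.ι)) -
          Curv2.euler k Y ((Scheme.Modules.pushforward U.ι).obj ((Coh.structureModule Y).restrict U.ι))) := by
  haveI := Euler.isNoetherian_of_proper (X := Y) k
  have hd := hdim.le
  obtain ⟨hz, hEs⟩ := euler_part_good k hdim hpure hL hE
  have hO : Coh.IsCoh (Coh.structureModule Y) := Euler.isCoh_of_isInvertible Euler.isInvertible_structure
  have hLc : Coh.IsCoh L := Euler.isCoh_of_isInvertible hL.1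
  let G := CohB1.tensorMod E E
  let M := DecSh.mult k Y L G
  let o : Clopens Y → ℤ := fun S => Curv2.euler k Y (part S (Coh.structureModule Y))
  let l : Clopens Y → ℤ := fun S => Curv2.euler k Y (part S L) - o S
  have hM : 1 ≤ M := one_le_mult k hd hL hEE.2.2.1 (𝟙 G) hEE.1 hEE.2.1
  have key : ∀ S : Clopens Y, M * o S = -(Curv2.euler k Y G) * l S := by
    refine clopens_induction ?_ (fun S hS => ?_) ?_
    · simp only [o, l, euler_zero k (isZero_part_bot (Coh.structureModule Y)), euler_zero k (isZero_part_bot L)]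
      ring
    · let V : Y.Opens := ⟨S, S.isClopen.2⟩
      obtain ⟨y, hy⟩ := hS.nonempty
      obtain ⟨r, s, hr, hs, hme, hmf, hmg, hg⟩ :=
        component_invariants k hd hL.1 hE.1 hE.1 (fun y => hE.2.2.1 y trivial) (fun y => hE.2.2.1 y trivial)
          V S.isClopen hS
      have hSU : toClopens V S.isClopen = S := rfl
      rw [hSU] at hme hmf hmg hg
      rw [hz S] at hg
      have h1 : 1 ≤ DecSh.mult k Y L (part S E) :=
        one_le_mult k hd hL hEs.2.2.1 (inc S E) (isCoh_part S hEs.1) (not_isZero_part hy (hE.2.2.1 y trivial))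
      have sg := part_slope k hd hL.1 hEE S
      rw [hg, hmg] at sg
      refine mul_left_cancel₀ (mul_ne_zero hr.ne' hs.ne') ?_
      simp only [o, l, M, G]
      linear_combination -sg
    · intro A B S hA hB hdj hu a b
      obtain ⟨l1, -⟩ := part_additive k hd hL.1 hA hB hdj hu hLc
      obtain ⟨o1, -⟩ := part_additive k hd hL.1 hA hB hdj hu hO
      simp only [o, l] at a b ⊢
      rw [l1, o1]
      linear_combination a + b
  have htop := key ⊤
  simp only [o, l] at htop
  rw [(part_top k L L).1, (part_top k L (Coh.structureModule Y)).1] at htop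
  obtain ⟨eL⟩ := nonempty_part_iso_push U hU L
  obtain ⟨eO⟩ := nonempty_part_iso_push U hU (Coh.structureModule Y)
  have hUk := key ⟨(U : Set Y), hU⟩
  simp only [o, l] at hUk
  rw [Euler.euler_of_iso k eL, Euler.euler_of_iso k eO] at hUk
  refine mul_left_cancel₀ (show M ≠ 0 by omega) ?_
  linear_combination (Curv2.euler k Y L - Curv2.euler k Y (Coh.structureModule Y)) * hUk -
    (Curv2.euler k Y ((Scheme.Modules.pushforward U.ι).obj (L.restrict U.ι)) -
      Curv2.euler k Y ((Scheme.Modules.pushforward U.ι).obj ((Coh.structureModule Y).restrict U.ι))) * htop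

end GrothLib.ClopenDec11
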